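import Cfsg.Agent.H883.BR.Defs

/-!
# HUB BR: locally finite fields and the condition `count` (helper212)

* `locfin` : a finite set of the algebraic closure of a finite field lies in a finite subfield;
* `finite_base`, `card_base`, `charP_closure` : the copy of `F` in its algebraic closure;
* `exists_subfield`, `exists_subfield_sq` : the subfield `x ^ q = x`;
* `count_of_card`, `count_of_index` : the condition `count` of `Fam`.
-/

set_option autoImplicit false

open Cfsg.Agent.H883.BR

namespace Cfsg.Agent.H212.BR

universe u w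

/-! ### fields -/

theorem locfin (F : Type u) [Field F] [Finite F] : ∀ S : Set (AlgebraicClosure F), S.Finite →
    ∃ E : Subfield (AlgebraicClosure F), Finite E ∧ S ⊆ E := by
  intro S hS
  have : Finite S := hS
  have h1 : FiniteDimensional F (IntermediateField.adjoin F S) :=
    IntermediateField.finiteDimensional_adjoin fun x _ => Algebra.IsIntegral.isIntegral x
  have h2 : Finite (IntermediateField.adjoin F S) := Module.finite_of_finite F
  exact ⟨(IntermediateField.adjoin F S).toSubfield, h2, IntermediateField.subset_adjoin F S⟩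

/-- the copy of `F` in its algebraic closure -/
noncomputable abbrev base (F : Type u) [Field F] : Subfield (AlgebraicClosure F) := (algebraMap F (AlgebraicClosure F)).fieldRange

theorem mem_base (F : Type u) [Field F] {x : AlgebraicClosure F} :
    x ∈ base F ↔ ∃ a : F, algebraMap F (AlgebraicClosure F) a = x := RingHom.mem_fieldRange

/-- `F` and its copy -/
noncomputable def baseEquiv (F : Type u) [Field F] : F ≃+* base F :=
  RingEquiv.ofBijective (algebraMap F (AlgebraicClosure F)).rangeRestrictField
    (algebraMap F (AlgebraicClosure F)).rangeRestrictField_bijective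

theorem baseEquiv_apply (F : Type u) [Field F] (a : F) :
    ((baseEquiv F a : base F) : AlgebraicClosure F) = algebraMap F (AlgebraicClosure F) a := rfl

theorem finite_base (F : Type u) [Field F] [Finite F] : Finite (base F) := Finite.of_equiv F (baseEquiv F).toEquiv

theorem card_base (F : Type u) [Field F] : Nat.card (base F) = Nat.card F :=
  (Nat.card_congr (baseEquiv F).toEquiv).symm

theorem charP_closure (F : Type u) [Field F] (p : ℕ) [CharP F p] : CharP (AlgebraicClosure F) p :=
  charP_of_injective_algebraMap (algebraMap F (AlgebraicClosure F)).injective p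

/-- The subfield with `p ^ k` elements. -/
theorem exists_subfield {K : Type u} [Field K] [IsAlgClosed K] {p k : ℕ} [hp : Fact p.Prime] [CharP K p]
    (hk : 0 < k) : ∃ E : Subfield K, Nat.card E = p ^ k ∧ ∀ x, x ∈ E ↔ x ^ (p ^ k) = x := by
  classical
  let E : Subfield K :=
    { carrier := {x | x ^ (p ^ k) = x}
      mul_mem' := fun {a b} ha hb => by
        change (a * b) ^ (p ^ k) = a * b
        rw [mul_pow, show a ^ (p ^ k) = a from ha, show b ^ (p ^ k) = b from hb]
      one_mem' := one_pow _
      add_mem' := fun {a b} ha hb => by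
        change (a + b) ^ (p ^ k) = a + b
        rw [add_pow_char_pow, show a ^ (p ^ k) = a from ha, show b ^ (p ^ k) = b from hb]
      zero_mem' := zero_pow (pow_ne_zero _ hp.out.ne_zero)
      neg_mem' := fun {a} ha => by
        change (-a) ^ (p ^ k) = -a
        have h1 : (0 - a) ^ (p ^ k) = 0 ^ (p ^ k) - a ^ (p ^ k) := sub_pow_char_pow ..
        rw [zero_sub, zero_pow (pow_ne_zero _ hp.out.ne_zero), show a ^ (p ^ k) = a from ha, zero_sub] at h1
        exact h1
      inv_mem' := fun a ha => by
        change a⁻¹ ^ (p ^ k) = a⁻¹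
        rw [inv_pow, show a ^ (p ^ k) = a from ha] }
  refine ⟨E, ?_, fun x => Iff.rfl⟩
  have hq : 1 < p ^ k := Nat.one_lt_pow hk.ne' hp.out.one_lt
  have hsep : (Polynomial.X ^ (p ^ k) - Polynomial.X : Polynomial K).Separable :=
    galois_poly_separable p (p ^ k) (dvd_pow_self p hk.ne')
  have hne : (Polynomial.X ^ (p ^ k) - Polynomial.X : Polynomial K) ≠ 0 := FiniteField.X_pow_card_sub_X_ne_zero K hq
  have h1 : Fintype.card ((Polynomial.X ^ (p ^ k) - Polynomial.X : Polynomial K).rootSet K) = p ^ k := by
    rw [Polynomial.card_rootSet_eq_natDegree hsep (IsAlgClosed.splits _), FiniteField.X_pow_card_sub_X_natDegree_eq K hq]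
  rw [← h1, ← Nat.card_eq_fintype_card]
  refine Nat.card_congr (Equiv.subtypeEquivRight fun x => ?_)
  rw [Polynomial.mem_rootSet]
  constructor
  · intro hx
    refine ⟨hne, ?_⟩
    have h2 : x ^ (p ^ k) = x := hx
    simp [h2]
  · rintro ⟨-, hx⟩
    have h2 : x ^ (p ^ k) - x = 0 := by simpa using hx
    exact sub_eq_zero.1 h2

/-- `|F| = q ^ 2` : the subfield with `q` elements. -/
theorem exists_subfield_sq (F : Type u) [Field F] [Finite F] {q : ℕ} (hq : Nat.card F = q ^ 2) :
    ∃ E : Subfield (AlgebraicClosure F), Finite E ∧ Nat.card E = q ∧ (∀ x, x ∈ E ↔ x ^ q = x) ∧ E ≤ base F := by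
  classical
  have := Fintype.ofFinite F
  obtain ⟨p, hc⟩ := CharP.exists F
  have hp : Fact p.Prime := ⟨CharP.char_is_prime F p⟩
  have := charP_closure F p
  obtain ⟨n, -, hn⟩ := FiniteField.card F p
  rw [← Nat.card_eq_fintype_card, hq] at hn
  have h1 : q ∣ p ^ (n : ℕ) := by rw [← hn]; exact dvd_pow_self q two_ne_zero
  obtain ⟨k, hk, rfl⟩ := (Nat.dvd_prime_pow hp.out).1 h1
  have hk0 : 0 < k := by
    rcases Nat.eq_zero_or_pos k with h | h
    · rw [h, pow_zero, one_pow] at hn
      have h2 := Nat.one_lt_pow n.pos.ne' hp.out.one_lt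
      omega
    · exact h
  obtain ⟨E, hE, hmem⟩ := exists_subfield (K := AlgebraicClosure F) (p := p) hk0
  have hfin : Finite E := Nat.finite_of_card_ne_zero (by rw [hE]; exact pow_ne_zero _ hp.out.ne_zero)
  refine ⟨E, hfin, hE, hmem, ?_⟩
  -- the elements of `base F` are the roots of `X ^ (q ^ 2) - X`
  obtain ⟨E', hE', hmem'⟩ := exists_subfield (K := AlgebraicClosure F) (p := p) n.pos
  have hfin' : Finite E' := Nat.finite_of_card_ne_zero (by rw [hE']; exact pow_ne_zero _ hp.out.ne_zero)
  have h2 : base F ≤ E' := by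
    intro x hx
    obtain ⟨a, rfl⟩ := (mem_base F).1 hx
    rw [hmem', ← map_pow]
    congr 1
    have h3 := FiniteField.pow_card a
    rwa [← Nat.card_eq_fintype_card, hq, hn] at h3
  have h3 : (base F : Set (AlgebraicClosure F)) = E' := by
    apply Set.eq_of_subset_of_ncard_le h2 _ (Set.toFinite _)
    have h4 : (E' : Set (AlgebraicClosure F)).ncard = p ^ (n : ℕ) := hE'
    have h5 : (base F : Set (AlgebraicClosure F)).ncard = p ^ (n : ℕ) := by
      have := card_base F
      rw [hq, hn] at this
      exact this
    rw [h4, h5]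
  intro x hx
  have h4 : x ∈ (base F : Set (AlgebraicClosure F)) := by
    rw [h3]
    show x ∈ E'
    have h5 := (hmem x).1 hx
    rw [hmem', ← hn, pow_two, pow_mul, h5, h5]
  exact h4

/-! ### the condition `count` -/

theorem pow_le_choose {q d : ℕ} (hq : 0 < q) : q ^ d ≤ d.factorial * Nat.choose (q - 1 + d) d := by
  have h1 := Nat.pow_succ_le_ascFactorial q d
  have h2 := Nat.ascFactorial_eq_factorial_mul_choose (q - 1) d
  rw [Nat.sub_add_cancel hq] at h2
  rw [← h2]
  exact h1

/-- `count` from a bound for the index. -/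
theorem count_of_lt {q d c e : ℕ} {G : Type w} [Group G] [Finite G] (hq : 0 < q)
    (hG : Nat.card G ≤ c * q ^ (d + e)) {M : Subgroup G} (hM : c * d.factorial * q ^ e < M.index) :
    Nat.card M < Nat.choose (q - 1 + d) d := by
  by_contra hcon
  push Not at hcon
  have h1 := M.card_mul_index
  have h2 := pow_le_choose (q := q) (d := d) hq
  have hMpos : 0 < Nat.card M := Nat.card_pos
  have h3 : Nat.card M * (c * d.factorial * q ^ e) < c * q ^ (d + e) := by
    calc Nat.card M * (c * d.factorial * q ^ e) < Nat.card M * M.index := Nat.mul_lt_mul_of_pos_left hM hMpos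
      _ = Nat.card G := h1
      _ ≤ c * q ^ (d + e) := hG
  have h4 : c * q ^ (d + e) ≤ Nat.card M * (c * d.factorial * q ^ e) := by
    calc c * q ^ (d + e) = c * q ^ e * q ^ d := by rw [pow_add]; ring
      _ ≤ c * q ^ e * (d.factorial * Nat.choose (q - 1 + d) d) := Nat.mul_le_mul_left _ h2
      _ ≤ c * q ^ e * (d.factorial * Nat.card M) := Nat.mul_le_mul_left _ (Nat.mul_le_mul_left _ hcon)
      _ = Nat.card M * (c * d.factorial * q ^ e) := by ring
  omega

/-- The index of a proper subgroup of a quasisimple group. -/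
theorem card_le_factorial {G : Type w} [Group G] [Finite G] (hG : QS G) {M : Subgroup G} (hM : M ≠ ⊤) :
    Nat.card (G ⧸ Subgroup.center G) ≤ M.index.factorial := by
  classical
  have hfin : Finite (G ⧸ M) := inferInstance
  have := Fintype.ofFinite (G ⧸ M)
  have h1 : M.normalCore ≤ Subgroup.center G := by
    rcases hG.max M.normalCore inferInstance with h | h
    · exact h
    · exact absurd (eq_top_iff.2 (h ▸ M.normalCore_le)) hM
  have h2 : M.normalCore.index ≤ M.index.factorial := by
    have h3 : M.normalCore = (MulAction.toPermHom G (G ⧸ M)).ker := Subgroup.normalCore_eq_ker M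
    rw [h3, Subgroup.index_ker]
    have h4 : Nat.card (MulAction.toPermHom G (G ⧸ M)).range ≤ Nat.card (Equiv.Perm (G ⧸ M)) :=
      Subgroup.card_le_card_group _
    rw [Nat.card_eq_fintype_card (α := Equiv.Perm (G ⧸ M)), Fintype.card_perm, ← Nat.card_eq_fintype_card] at h4
    exact h4
  have h3 : (Subgroup.center G).index ≤ M.normalCore.index := by
    have h4 := Subgroup.index_antitone (H := M.normalCore) (K := Subgroup.center G) h1
    exact h4
  exact h3.trans h2

/-- **`count` for a group with `|G| ≤ c q ^ d`.** -/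
theorem count_of_card (d c : ℕ) : ∃ q₀ : ℕ, ∀ (q : ℕ) (G : Type w) [Group G] [Finite G], q₀ ≤ q → QS G →
    q ≤ Nat.card (G ⧸ Subgroup.center G) → Nat.card G ≤ c * q ^ d → ∀ M : Subgroup G, M ≠ ⊤ →
    Nat.card M < Nat.choose (q - 1 + d) d := by
  refine ⟨(c * d.factorial).factorial + 1, fun q G _ _ hq hG hqG hcard M hM => ?_⟩
  refine count_of_lt (e := 0) (c := c) (by omega) (by simpa using hcard) ?_
  rw [pow_zero, mul_one]
  by_contra hcon
  push Not at hcon
  have h1 := card_le_factorial hG hM
  have h2 := Nat.factorial_le hcon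
  omega

/-- **`count` for a group with `|G| ≤ c q ^ (d + 1)`.** -/
theorem count_of_index {d c q : ℕ} {G : Type w} [Group G] [Finite G] (hq : 0 < q)
    (hcard : Nat.card G ≤ c * q ^ (d + 1)) (hidx : ∀ M : Subgroup G, M ≠ ⊤ → c * d.factorial * q < M.index) :
    ∀ M : Subgroup G, M ≠ ⊤ → Nat.card M < Nat.choose (q - 1 + d) d := fun M hM =>
  count_of_lt (e := 1) (c := c) hq hcard (by rw [pow_one]; exact hidx M hM)

end Cfsg.Agent.H212.BR
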